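import Groth.Agent.Lib.WeilFin11.Cat
import Groth.Agent.Lib.Euler.TensorSupport
import Groth.Agent.Lib.OX.RHomDual
import Groth.Agent.Lib.OX.TensorAssoc
import Groth.Agent.Lib.OX.OneDegLocus
import Groth.Agent.Lib.Snapper.Positive
import Mathlib.LinearAlgebra.Dimension.StrongRankCondition
import Mathlib.LinearAlgebra.Dimension.Constructions
import Mathlib.Algebra.Polynomial.Coeff

/-!
# Bundles finite in the sense of Weil
-/

set_option autoImplicit false
set_option linter.all false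
set_option backward.isDefEq.respectTransparency false

universe u

open CategoryTheory CategoryTheory.Limits AlgebraicGeometry
open GrothLib.ASBun21 GrothLib.Euler

noncomputable section

namespace GrothLib.WeilFin11

attribute [local instance] Abelian.hasFiniteBiproducts

variable (k : Type u) [Field k] {X : Scheme.{u}} [X.Over (Spec (CommRingCat.of k))]

local notation "T" => CohB1.tensorMod

/-- Commutativity. -/
def swapIso (M N : X.Modules) : T M N ≅ T N M :=
  (((OX.tensorBraiding (X := X)).app N).app M)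

/-- Functoriality. -/
def congrIso {M M' N N' : X.Modules} (e : M ≅ M') (f : N ≅ N') : T M N ≅ T M' N' :=
  (tF N).mapIso e ≪≫ ((DCoh.tensorBi (X := X)).obj M').mapIso f

/-- Interchange. -/
def interchangeIso (A B C D : X.Modules) : T (T A B) (T C D) ≅ T (T A C) (T B D) :=
  (OX.tensorAssoc (T A B) C D).symm ≪≫
    congrIso (OX.tensorAssoc A B C ≪≫ congrIso (Iso.refl A) (swapIso B C) ≪≫ (OX.tensorAssoc A C B).symm) (Iso.refl D) ≪≫
    OX.tensorAssoc (T A C) B D

theorem isFinLocFree_tensorPow {E : X.Modules} (hE : FlatMod.IsFinLocFree E) :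
    ∀ n, FlatMod.IsFinLocFree (CohB1.tensorPow E n)
  | 0 => OX.isFinLocFree_structureModule X
  | n + 1 => OX.isFinLocFree_tensor (isFinLocFree_tensorPow hE n) hE

/-- Retracts of tensor powers. -/
theorem exists_retract_tensorPow {M N : X.Modules} (i : M ⟶ N) (p : N ⟶ M) (h : i ≫ p = 𝟙 M) :
    ∀ n, ∃ (j : CohB1.tensorPow M n ⟶ CohB1.tensorPow N n) (q : CohB1.tensorPow N n ⟶ CohB1.tensorPow M n),
      j ≫ q = 𝟙 _
  | 0 => ⟨𝟙 _, 𝟙 _, Category.id_comp _⟩
  | n + 1 => by
    obtain ⟨j, q, hjq⟩ := exists_retract_tensorPow i p h n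
    refine ⟨(tF M).map j ≫ ((DCoh.tensorBi (X := X)).obj (CohB1.tensorPow N n)).map i,
      ((DCoh.tensorBi (X := X)).obj (CohB1.tensorPow N n)).map p ≫ (tF M).map q, ?_⟩
    rw [Category.assoc, ← Functor.map_comp_assoc, h, CategoryTheory.Functor.map_id, Category.id_comp,
      ← Functor.map_comp, hjq, CategoryTheory.Functor.map_id]
    rfl

variable [IsProper (X ↘ Spec (CommRingCat.of k))]

include k in
theorem isLocallyNoetherian : IsLocallyNoetherian X :=
  haveI := Euler.isNoetherian_of_proper (X := X) k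
  inferInstance

theorem finEnd_of_isCoh {M : X.Modules} (h : Coh.IsCoh M) : FinEnd k M := finite_hom k h h

theorem finEnd_of_isFinLocFree {M : X.Modules} (h : FlatMod.IsFinLocFree M) : FinEnd k M :=
  haveI := isLocallyNoetherian k (X := X)
  finEnd_of_isCoh k (Euler.isCoh_of_isFinLocFree h)

include k in
theorem isCoh_lsum : ∀ (l : List X.Modules), (∀ a ∈ l, Coh.IsCoh a) → Coh.IsCoh (lsum l)
  | [], _ => haveI := isLocallyNoetherian k (X := X); Euler.isCoh_of_isZero isZero_lsum_nil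
  | a :: l, h => haveI := isLocallyNoetherian k (X := X)
    QCoh.isCoh_biprod' (h a (List.mem_cons_self ..)) (isCoh_lsum l fun b hb => h b (List.mem_cons_of_mem _ hb))

include k in
theorem isCoh_coprod {n : ℕ} (F : Fin n → X.Modules) (h : ∀ i, Coh.IsCoh (F i)) : Coh.IsCoh (∐ F) :=
  QCoh.isCoh_of_iso (nonempty_coprod_lsum F).some.symm
    (isCoh_lsum k _ fun a ha => by obtain ⟨i, rfl⟩ := List.mem_ofFn.1 ha; exact h i)

theorem ks_coprod {n : ℕ} (F : Fin n → X.Modules) (h : ∀ i, Coh.IsCoh (F i)) :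
    ks k (∐ F) = ∑ i, ks k (F i) := by
  have hl : Coh.IsCoh (lsum (List.ofFn F)) :=
    isCoh_lsum k _ fun a ha => by obtain ⟨i, rfl⟩ := List.mem_ofFn.1 ha; exact h i
  rw [ks_iso k (finEnd_of_isCoh k hl) (nonempty_coprod_lsum F).some, ks_lsum k _ (finEnd_of_isCoh k hl),
    List.map_ofFn, List.sum_ofFn]
  rfl

omit [IsProper (X ↘ Spec (CommRingCat.of k))] in
/-- An additive functor commutes with finite coproducts. -/
theorem nonempty_map_coprod {D : Type*} [Category D] [Abelian D] (G : X.Modules ⥤ D) [G.Additive] {n : ℕ}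
    (F : Fin n → X.Modules) : Nonempty (G.obj (∐ F) ≅ ∐ fun i => G.obj (F i)) := by
  obtain ⟨e⟩ := nonempty_map_lsum G (List.ofFn F)
  obtain ⟨f⟩ := nonempty_coprod_lsum (fun i => G.obj (F i))
  refine ⟨G.mapIso (nonempty_coprod_lsum F).some ≪≫ e ≪≫ eqToIso ?_ ≪≫ f.symm⟩
  rw [List.map_ofFn]
  rfl

/-- A polynomial with natural coefficients at `E`. -/
abbrev polyObj (P : Polynomial ℕ) (E : X.Modules) : X.Modules :=
  ∐ fun i : Fin (P.natDegree + 1) => ∐ fun _ : Fin (P.coeff ↑i) => CohB1.tensorPow E ↑i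

/-- Only finitely many indecomposables occur in the tensor powers. -/
def FinType (E : X.Modules) : Prop :=
  ∃ s : Set (Cls X.Modules), s.Finite ∧ ∀ n, ∀ c ∈ ks k (CohB1.tensorPow E n), c ∈ s

theorem sum_fin_eq_range {M : Type*} [AddCommMonoid M] (P : Polynomial ℕ) (v : ℕ → M) {N : ℕ} (hN : P.natDegree < N) :
    ∑ i : Fin (P.natDegree + 1), P.coeff i • v i = ∑ i ∈ Finset.range N, P.coeff i • v i := by
  rw [Fin.sum_univ_eq_sum_range (fun i => P.coeff i • v i)]
  exact Finset.sum_subset (Finset.range_mono (by omega)) fun i _ hi => by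
    rw [Polynomial.coeff_eq_zero_of_natDegree_lt (by simp at hi; omega), zero_smul]

include k in
theorem isCoh_polyObj {E : X.Modules} (hE : FlatMod.IsFinLocFree E) (P : Polynomial ℕ) : Coh.IsCoh (polyObj P E) :=
  haveI := isLocallyNoetherian k (X := X)
  isCoh_coprod k _ fun _ => isCoh_coprod k _ fun _ => Euler.isCoh_of_isFinLocFree (isFinLocFree_tensorPow hE _)

theorem ks_polyObj {E : X.Modules} (hE : FlatMod.IsFinLocFree E) (P : Polynomial ℕ) {N : ℕ} (hN : P.natDegree < N) :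
    ks k (polyObj P E) = ∑ i ∈ Finset.range N, P.coeff i • ks k (CohB1.tensorPow E i) := by
  haveI := isLocallyNoetherian k (X := X)
  rw [ks_coprod k _ fun _ => isCoh_coprod k _ fun _ => Euler.isCoh_of_isFinLocFree (isFinLocFree_tensorPow hE _),
    ← sum_fin_eq_range P (fun i => ks k (CohB1.tensorPow E i)) hN]
  refine Finset.sum_congr rfl fun i _ => ?_
  rw [ks_coprod k _ fun _ => Euler.isCoh_of_isFinLocFree (isFinLocFree_tensorPow hE _), Finset.sum_const, Finset.card_univ,
    Fintype.card_fin]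

theorem ks_polyObj_tensor {E : X.Modules} (hE : FlatMod.IsFinLocFree E) (P : Polynomial ℕ) (j : ℕ) {N : ℕ}
    (hN : P.natDegree < N) : ks k ((tF (CohB1.tensorPow E j)).obj (polyObj P E)) =
      ∑ i ∈ Finset.range N, P.coeff i • ks k (CohB1.tensorPow E (i + j)) := by
  haveI := isLocallyNoetherian k (X := X)
  have hc : ∀ i, Coh.IsCoh (CohB1.tensorPow E i) := fun i => Euler.isCoh_of_isFinLocFree (isFinLocFree_tensorPow hE i)
  let G := tF (CohB1.tensorPow E j)
  obtain ⟨e⟩ := nonempty_map_coprod G (fun i : Fin (P.natDegree + 1) => ∐ fun _ : Fin (P.coeff ↑i) => CohB1.tensorPow E ↑i)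
  have e' : ∀ i : Fin (P.natDegree + 1), G.obj (∐ fun _ : Fin (P.coeff ↑i) => CohB1.tensorPow E ↑i) ≅
      ∐ fun _ : Fin (P.coeff ↑i) => CohB1.tensorPow E (↑i + j) := fun i =>
    (nonempty_map_coprod G _).some ≪≫ Limits.Sigma.mapIso fun _ => (Snapper.nonempty_tensorPow_add E i j).some.symm
  rw [ks_iso k (finEnd_of_isCoh k (isCoh_coprod k _ fun i => isCoh_coprod k _ fun _ => hc _)) (e ≪≫ Limits.Sigma.mapIso e'),
    ks_coprod k _ fun i => isCoh_coprod k _ fun _ => hc _,
    ← sum_fin_eq_range P (fun i => ks k (CohB1.tensorPow E (i + j))) hN]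
  refine Finset.sum_congr rfl fun i _ => ?_
  rw [ks_coprod k _ fun _ => hc _, Finset.sum_const, Finset.card_univ, Fintype.card_fin]

include k in
theorem isCoh_tF_obj {E : X.Modules} (hE : FlatMod.IsFinLocFree E) (i j : ℕ) :
    Coh.IsCoh ((tF (CohB1.tensorPow E j)).obj (CohB1.tensorPow E i)) :=
  haveI := isLocallyNoetherian k (X := X)
  Euler.isCoh_of_isFinLocFree (M := (tF (CohB1.tensorPow E j)).obj (CohB1.tensorPow E i))
    (OX.isFinLocFree_tensor (M := CohB1.tensorPow E i) (N := CohB1.tensorPow E j)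
      (isFinLocFree_tensorPow hE i) (isFinLocFree_tensorPow hE j))

include k in
theorem isCoh_polyObj_tensor {E : X.Modules} (hE : FlatMod.IsFinLocFree E) (Q : Polynomial ℕ) (j : ℕ) :
    Coh.IsCoh ((tF (CohB1.tensorPow E j)).obj (polyObj Q E)) := by
  obtain ⟨e⟩ := nonempty_map_coprod (tF (CohB1.tensorPow E j))
    (fun i : Fin (Q.natDegree + 1) => ∐ fun _ : Fin (Q.coeff ↑i) => CohB1.tensorPow E ↑i)
  refine QCoh.isCoh_of_iso e.symm (isCoh_coprod k _ fun i => ?_)
  obtain ⟨e'⟩ := nonempty_map_coprod (tF (CohB1.tensorPow E j)) (fun _ : Fin (Q.coeff ↑i) => CohB1.tensorPow E ↑i)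
  exact QCoh.isCoh_of_iso e'.symm (isCoh_coprod k _ fun _ => isCoh_tF_obj k hE ↑i j)

/-- A polynomial relation forces finitely many indecomposables. -/
theorem finType_of_iso {E : X.Modules} (hE : FlatMod.IsFinLocFree E) {P Q : Polynomial ℕ} (hne : P ≠ Q)
    (h : Nonempty (polyObj P E ≅ polyObj Q E)) : FinType k E := by
  classical
  have hex : ∃ D, P.coeff D ≠ Q.coeff D ∧ ∀ i, D < i → P.coeff i = Q.coeff i := by
    by_contra hno
    push Not at hno
    refine hne (Polynomial.ext fun i => ?_)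
    by_contra hi
    have hbig : ∀ t, ∃ i, t ≤ i ∧ P.coeff i ≠ Q.coeff i := by
      intro t
      induction t with
      | zero => exact ⟨i, Nat.zero_le _, hi⟩
      | succ t ih =>
        obtain ⟨m, hm, hm'⟩ := ih
        obtain ⟨m', h1, h2⟩ := hno m hm'
        exact ⟨m', by omega, h2⟩
    obtain ⟨m, hm, hm'⟩ := hbig (max P.natDegree Q.natDegree + 1)
    exact hm' (by rw [Polynomial.coeff_eq_zero_of_natDegree_lt (by omega), Polynomial.coeff_eq_zero_of_natDegree_lt (by omega)])
  obtain ⟨D, hD, hhigh⟩ := hex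
  wlog hlt : Q.coeff D < P.coeff D generalizing P Q
  · exact this (Ne.symm hne) ⟨h.some.symm⟩ (Ne.symm hD) (fun i hi => (hhigh i hi).symm) (by omega)
  let s : Set (Cls X.Modules) := ⋃ i ∈ Finset.range D, {c | c ∈ ks k (CohB1.tensorPow E i)}
  refine ⟨s, Set.Finite.biUnion (Finset.range D).finite_toSet fun i _ =>
    (ks k (CohB1.tensorPow E i)).toFinset.finite_toSet.subset fun c hc => Multiset.mem_toFinset.2 hc, fun n => ?_⟩
  induction n using Nat.strong_induction_on with
  | _ n ih =>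
    intro c hc
    by_cases hnD : n < D
    · exact Set.mem_biUnion (Finset.mem_range.2 hnD) hc
    obtain ⟨j, rfl⟩ := Nat.exists_eq_add_of_le (not_lt.1 hnD)
    let N := max P.natDegree Q.natDegree + D + 1
    have hl := ks_polyObj_tensor k hE P j (N := N) (by omega)
    have hr := ks_polyObj_tensor k hE Q j (N := N) (by omega)
    have hcohQ : FinEnd k ((tF (CohB1.tensorPow E j)).obj (polyObj Q E)) :=
      finEnd_of_isCoh k (isCoh_polyObj_tensor k hE Q j)
    have heq := congrArg (Multiset.count c) (ks_iso k hcohQ ((tF (CohB1.tensorPow E j)).mapIso h.some))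
    rw [hl, hr, Multiset.count_sum', Multiset.count_sum'] at heq
    simp only [Multiset.count_nsmul] at heq
    by_contra hcs
    have hlow : ∀ i < D, Multiset.count c (ks k (CohB1.tensorPow E (i + j))) = 0 := fun i hi =>
      Multiset.count_eq_zero.2 fun hmem => hcs (ih (i + j) (by omega) c hmem)
    have hpos : 0 < Multiset.count c (ks k (CohB1.tensorPow E (D + j))) := Multiset.count_pos.2 hc
    have hlt' : (∑ i ∈ Finset.range N, Q.coeff i * Multiset.count c (ks k (CohB1.tensorPow E (i + j)))) <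
        ∑ i ∈ Finset.range N, P.coeff i * Multiset.count c (ks k (CohB1.tensorPow E (i + j))) := by
      refine Finset.sum_lt_sum (fun i _ => ?_) ⟨D, Finset.mem_range.2 (by omega), Nat.mul_lt_mul_of_pos_right hlt hpos⟩
      rcases lt_trichotomy i D with hi | rfl | hi
      · rw [hlow i hi, mul_zero, mul_zero]
      · exact Nat.mul_le_mul_right _ hlt.le
      · rw [hhigh i hi]
    omega

/-- Finitely many indecomposables force a polynomial relation. -/
theorem exists_iso_of_finType {E : X.Modules} (hE : FlatMod.IsFinLocFree E) (h : FinType k E) :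
    ∃ P Q : Polynomial ℕ, P ≠ Q ∧ Nonempty (polyObj P E ≅ polyObj Q E) := by
  classical
  obtain ⟨s, hs, hmem⟩ := h
  haveI := hs.fintype
  let L := Fintype.card s + 1
  let v : Fin L → (s → ℤ) := fun n c => Multiset.count (c : Cls X.Modules) (ks k (CohB1.tensorPow E n))
  have hdep : ¬ LinearIndependent ℤ v := fun hli => by
    have := hli.fintype_card_le_finrank
    rw [Fintype.card_fin, Module.finrank_fintype_fun_eq_card] at this
    omega
  obtain ⟨g, hg, i₀, hi₀⟩ := Fintype.not_linearIndependent_iff.1 hdep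
  let g' : ℕ → ℤ := fun i => if h : i < L then g ⟨i, h⟩ else 0
  let P : Polynomial ℕ := ∑ i ∈ Finset.range L, Polynomial.monomial i (g' i).toNat
  let Q : Polynomial ℕ := ∑ i ∈ Finset.range L, Polynomial.monomial i (-g' i).toNat
  have hPc : ∀ i, P.coeff i = (g' i).toNat := fun i => by
    simp only [P, Polynomial.finsetSum_coeff, Polynomial.coeff_monomial, Finset.sum_ite_eq']
    split_ifs with hi
    · rfl
    · simp only [g']; rw [dif_neg (by simpa using hi)]; rfl
  have hQc : ∀ i, Q.coeff i = (-g' i).toNat := fun i => by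
    simp only [Q, Polynomial.finsetSum_coeff, Polynomial.coeff_monomial, Finset.sum_ite_eq']
    split_ifs with hi
    · rfl
    · simp only [g']; rw [dif_neg (by simpa using hi)]; rfl
  refine ⟨P, Q, fun hPQ => hi₀ ?_, nonempty_iso_of_ks_eq k (finEnd_of_isCoh k (isCoh_polyObj k hE P))
    (finEnd_of_isCoh k (isCoh_polyObj k hE Q)) ?_⟩
  · have h1 := congrArg (fun R => Polynomial.coeff R (i₀ : ℕ)) hPQ
    simp only [hPc, hQc, g'] at h1
    rw [dif_pos i₀.2] at h1
    have h2 : ((g i₀).toNat : ℤ) = ((-g i₀).toNat : ℤ) := congrArg Nat.cast h1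
    rw [Int.toNat_eq_max, Int.toNat_eq_max] at h2
    omega
  · let N := max (max P.natDegree Q.natDegree) L + 1
    rw [ks_polyObj k hE P (N := N) (by omega), ks_polyObj k hE Q (N := N) (by omega)]
    refine Multiset.ext.2 fun c => ?_
    rw [Multiset.count_sum', Multiset.count_sum']
    simp only [Multiset.count_nsmul, hPc, hQc]
    by_cases hc : c ∈ s
    · have h0 := congrFun hg ⟨c, hc⟩
      simp only [Finset.sum_apply, Pi.smul_apply, smul_eq_mul, Pi.zero_apply, v] at h0
      have hkey : ∑ i ∈ Finset.range N, (((g' i).toNat : ℤ) * Multiset.count c (ks k (CohB1.tensorPow E i)) -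
          ((-g' i).toNat : ℤ) * Multiset.count c (ks k (CohB1.tensorPow E i))) = 0 := by
        rw [← Finset.sum_subset (Finset.range_mono (show L ≤ N by omega)) (fun i _ hi => by
          simp only [g']; rw [dif_neg (by simpa using hi)]; simp), ← Fin.sum_univ_eq_sum_range (fun i => _) L, ← h0]
        refine Finset.sum_congr rfl fun i _ => ?_
        rw [← sub_mul, Int.toNat_sub_toNat_neg]
        simp only [g']
        rw [dif_pos i.2]
      rw [Finset.sum_sub_distrib, sub_eq_zero] at hkey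
      exact_mod_cast hkey
    · have h0 : ∀ i, Multiset.count c (ks k (CohB1.tensorPow E i)) = 0 := fun i =>
        Multiset.count_eq_zero.2 fun hm => hc (hmem i c hm)
      simp [h0]

theorem weilFinite_iff {E : X.Modules} (hE : FlatMod.IsFinLocFree E) :
    (∃ P Q : Polynomial ℕ, P ≠ Q ∧ Nonempty (polyObj P E ≅ polyObj Q E)) ↔ FinType k E :=
  ⟨fun ⟨_, _, hne, h⟩ => finType_of_iso k hE hne h, exists_iso_of_finType k hE⟩

/-- Direct summands inherit finiteness. -/
theorem FinType.of_retract {M N : X.Modules} (hN : FlatMod.IsFinLocFree N) (i : M ⟶ N) (p : N ⟶ M)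
    (h : i ≫ p = 𝟙 M) (hT : FinType k N) : FinType k M := by
  obtain ⟨s, hs, hmem⟩ := hT
  refine ⟨s, hs, fun n c hc => hmem n c ?_⟩
  obtain ⟨j, q, hjq⟩ := exists_retract_tensorPow i p h n
  exact ks_subset_of_retract k (finEnd_of_isFinLocFree k (isFinLocFree_tensorPow hN n)) j q hjq hc

theorem exists_mem_ks_lsum (l : List X.Modules) (h : FinEnd k (lsum l)) {c : Cls X.Modules}
    (hc : c ∈ ks k (lsum l)) : ∃ a ∈ l, FinEnd k a ∧ c ∈ ks k a := by
  induction l with
  | nil => rw [ks_zero k isZero_lsum_nil] at hc; simp at hc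
  | cons a l ih =>
    change c ∈ ks k (a ⊞ lsum l) at hc
    rw [ks_biprod k (A := a) (B := lsum l) h, Multiset.mem_add] at hc
    rcases hc with hc | hc
    · exact ⟨a, List.mem_cons_self .., FinEnd.left k (B := lsum l) h, hc⟩
    · obtain ⟨b, hb, hb'⟩ := ih (FinEnd.right k (A := a) h) hc
      exact ⟨b, List.mem_cons_of_mem _ hb, hb'⟩

/-- The indecomposables in products. -/
def pairSet (s t : Set (Cls X.Modules)) : Set (Cls X.Modules) :=
  ⋃ a ∈ s, ⋃ b ∈ t, {c | c ∈ ks k (T a.out b.out)}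

theorem finite_pairSet {s t : Set (Cls X.Modules)} (hs : s.Finite) (ht : t.Finite) : (pairSet k s t).Finite := by
  classical
  exact hs.biUnion fun a _ => ht.biUnion fun b _ =>
    (ks k (T a.out b.out)).toFinset.finite_toSet.subset fun c hc => Multiset.mem_toFinset.2 hc

theorem mem_pairSet {s t : Set (Cls X.Modules)} {M N : X.Modules} (hM : FlatMod.IsFinLocFree M)
    (hN : FlatMod.IsFinLocFree N) (hs : ∀ c ∈ ks k M, c ∈ s) (ht : ∀ c ∈ ks k N, c ∈ t)
    {c : Cls X.Modules} (hc : c ∈ ks k (T M N)) : c ∈ pairSet k s t := by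
  have hMN : FinEnd k (T M N) := finEnd_of_isFinLocFree k (OX.isFinLocFree_tensor hM hN)
  obtain ⟨l, ⟨el⟩, hl⟩ := exists_rep_list k (finEnd_of_isFinLocFree k hM)
  obtain ⟨m, ⟨em⟩, hm⟩ := exists_rep_list k (finEnd_of_isFinLocFree k hN)
  obtain ⟨e₁⟩ := nonempty_map_lsum (tF N) l
  let e : T M N ≅ lsum (l.map (tF N).obj) := (tF N).mapIso el ≪≫ e₁
  rw [ks_iso k (hMN.of_iso k e.symm) e] at hc
  obtain ⟨_, hA, hAf, hc⟩ := exists_mem_ks_lsum k _ (hMN.of_iso k e.symm) hc
  obtain ⟨a, ha, rfl⟩ := List.mem_map.1 hA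
  obtain ⟨e₂⟩ := nonempty_map_lsum ((DCoh.tensorBi (X := X)).obj a) m
  let e' : T a N ≅ lsum (m.map ((DCoh.tensorBi (X := X)).obj a).obj) := ((DCoh.tensorBi (X := X)).obj a).mapIso em ≪≫ e₂
  have hAf' : FinEnd k (T a N) := hAf
  rw [show (tF N).obj a = T a N from rfl, ks_iso k (hAf'.of_iso k e'.symm) e'] at hc
  obtain ⟨_, hB, hBf, hc⟩ := exists_mem_ks_lsum k _ (hAf'.of_iso k e'.symm) hc
  obtain ⟨b, hb, rfl⟩ := List.mem_map.1 hB
  have ea : (cls a).out ≅ a := (Quotient.mk_out (s := isIsomorphicSetoid X.Modules) a).some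
  have eb : (cls b).out ≅ b := (Quotient.mk_out (s := isIsomorphicSetoid X.Modules) b).some
  refine Set.mem_biUnion (hs _ (hl a ha).2.2) (Set.mem_biUnion (ht _ (hm b hb).2.2) ?_)
  have hBf' : FinEnd k (T a b) := hBf
  show c ∈ ks k (T (cls a).out (cls b).out)
  rw [ks_iso k hBf' (congrIso ea eb)]
  exact hc

/-- Sums are finite. -/
theorem FinType.biprod {E₁ E₂ : X.Modules} (h₁ : FlatMod.IsFinLocFree E₁) (h₂ : FlatMod.IsFinLocFree E₂)
    (hE : FlatMod.IsFinLocFree (E₁ ⊞ E₂)) (hT₁ : FinType k E₁) (hT₂ : FinType k E₂) : FinType k (E₁ ⊞ E₂) := by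
  obtain ⟨s, hs, hsm⟩ := hT₁
  obtain ⟨t, ht, htm⟩ := hT₂
  refine ⟨pairSet k s t, finite_pairSet k hs ht, fun n => ?_⟩
  let item : ℕ × ℕ → X.Modules := fun p => T (CohB1.tensorPow E₁ p.1) (CohB1.tensorPow E₂ p.2)
  obtain ⟨l, ⟨e⟩⟩ : ∃ l : List (ℕ × ℕ), Nonempty (CohB1.tensorPow (E₁ ⊞ E₂) n ≅ lsum (l.map item)) := by
    induction n with
    | zero =>
      exact ⟨[(0, 0)], ⟨(Euler.tFUnitIso (Coh.structureModule X)).symm ≪≫ (nonempty_iso_lsum_singleton _).some⟩⟩
    | succ n ih =>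
      obtain ⟨l, ⟨e⟩⟩ := ih
      refine ⟨l.map (fun p => (p.1 + 1, p.2)) ++ l.map (fun p => (p.1, p.2 + 1)), ⟨?_⟩⟩
      have e₁ : ∀ l : List (ℕ × ℕ), Nonempty (lsum ((l.map item).map (tF E₁).obj) ≅
          lsum ((l.map fun p => (p.1 + 1, p.2)).map item)) := fun l => by
        induction l with
        | nil => exact ⟨Iso.refl _⟩
        | cons p l ih =>
          exact ⟨biprod.mapIso (OX.tensorAssoc (CohB1.tensorPow E₁ p.1) (CohB1.tensorPow E₂ p.2) E₁ ≪≫
            congrIso (Iso.refl _) (swapIso _ _) ≪≫ (OX.tensorAssoc (CohB1.tensorPow E₁ p.1) E₁ (CohB1.tensorPow E₂ p.2)).symm)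
            ih.some⟩
      have e₂ : ∀ l : List (ℕ × ℕ), Nonempty (lsum ((l.map item).map (tF E₂).obj) ≅
          lsum ((l.map fun p => (p.1, p.2 + 1)).map item)) := fun l => by
        induction l with
        | nil => exact ⟨Iso.refl _⟩
        | cons p l ih => exact ⟨biprod.mapIso (OX.tensorAssoc (CohB1.tensorPow E₁ p.1) (CohB1.tensorPow E₂ p.2) E₂) ih.some⟩
      haveI : PreservesBinaryBiproduct E₁ E₂ ((DCoh.tensorBi (X := X)).obj (CohB1.tensorPow (E₁ ⊞ E₂) n)) :=
        preservesBinaryBiproduct_of_preservesBiproduct _ E₁ E₂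
      refine ((DCoh.tensorBi (X := X)).obj (CohB1.tensorPow (E₁ ⊞ E₂) n)).mapBiprod E₁ E₂ ≪≫ biprod.mapIso
        ((tF E₁).mapIso e ≪≫ (nonempty_map_lsum (tF E₁) _).some ≪≫ (e₁ l).some)
        ((tF E₂).mapIso e ≪≫ (nonempty_map_lsum (tF E₂) _).some ≪≫ (e₂ l).some) ≪≫
        (nonempty_lsum_append _ _).some.symm ≪≫ eqToIso (congrArg lsum (List.map_append).symm)
  intro c hc
  have hf : FinEnd k (lsum (l.map item)) := (finEnd_of_isFinLocFree k (isFinLocFree_tensorPow hE n)).of_iso k e.symm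
  rw [ks_iso k hf e] at hc
  obtain ⟨_, hA, -, hc⟩ := exists_mem_ks_lsum k _ hf hc
  obtain ⟨p, -, rfl⟩ := List.mem_map.1 hA
  exact mem_pairSet k (isFinLocFree_tensorPow h₁ _) (isFinLocFree_tensorPow h₂ _) (hsm _) (htm _) hc

/-- Products are finite. -/
theorem FinType.tensor {E₁ E₂ : X.Modules} (h₁ : FlatMod.IsFinLocFree E₁) (h₂ : FlatMod.IsFinLocFree E₂)
    (hT₁ : FinType k E₁) (hT₂ : FinType k E₂) : FinType k (T E₁ E₂) := by
  obtain ⟨s, hs, hsm⟩ := hT₁
  obtain ⟨t, ht, htm⟩ := hT₂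
  refine ⟨pairSet k s t, finite_pairSet k hs ht, fun n => ?_⟩
  obtain ⟨e⟩ : Nonempty (CohB1.tensorPow (T E₁ E₂) n ≅ T (CohB1.tensorPow E₁ n) (CohB1.tensorPow E₂ n)) := by
    induction n with
    | zero => exact ⟨(Euler.tFUnitIso (Coh.structureModule X)).symm⟩
    | succ n ih => exact ⟨congrIso ih.some (Iso.refl _) ≪≫ interchangeIso _ _ _ _⟩
  intro c hc
  rw [ks_iso k (finEnd_of_isFinLocFree k (OX.isFinLocFree_tensor (isFinLocFree_tensorPow h₁ n) (isFinLocFree_tensorPow h₂ n))) e] at hc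
  exact mem_pairSet k (isFinLocFree_tensorPow h₁ n) (isFinLocFree_tensorPow h₂ n) (hsm n) (htm n) hc

end GrothLib.WeilFin11
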