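import Groth.Agent.Lib.WeilFin11.Basic
import Groth.Agent.Lib.ASBun21.Summands
import Groth.Agent.Lib.Euler.Slope
import Groth.Agent.S7637

/-!
# Bundles finite in the sense of Weil have degree zero and are semistable
-/

set_option autoImplicit false
set_option linter.all false
set_option backward.isDefEq.respectTransparency false

universe u

open CategoryTheory CategoryTheory.Limits AlgebraicGeometry
open GrothLib.ASBun21 GrothLib.Euler

noncomputable section

namespace GrothLib.WeilFin11

attribute [local instance] Abelian.hasFiniteBiproducts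

variable {X : Scheme.{u}}

/-- The rank of a tensor product. -/
theorem isFinLocFreeOfRank_tensor {M N : X.Modules} {m n : ℕ} (hM : FlatMod.IsFinLocFreeOfRank m M)
    (hN : FlatMod.IsFinLocFreeOfRank n N) : FlatMod.IsFinLocFreeOfRank (m * n) (CohB1.tensorMod M N) := fun x => by
  obtain ⟨U, hxU, ⟨i⟩⟩ := hM x
  obtain ⟨V, hxV, ⟨j⟩⟩ := hN x
  obtain ⟨i'⟩ := DCoh.exists_free_restrict_le (inf_le_left : U ⊓ V ≤ U) i
  obtain ⟨j'⟩ := DCoh.exists_free_restrict_le (inf_le_right : U ⊓ V ≤ V) j
  let P := Scheme.Modules.restrictFunctorIsoPullback (U ⊓ V).ι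
  refine ⟨U ⊓ V, ⟨hxU, hxV⟩, ⟨?_⟩⟩
  exact P.app _ ≪≫ OX.pullTensorIso (U ⊓ V).ι M N ≪≫
    ((DCoh.tensorBi (X := (U ⊓ V : X.Opens).toScheme)).mapIso ((P.app M).symm ≪≫ i')).app _ ≪≫
    ((DCoh.tensorBi (X := (U ⊓ V : X.Opens).toScheme)).obj _).mapIso ((P.app N).symm ≪≫ j') ≪≫
    OX.tensorFreeIso _ m n

theorem isFinLocFreeOfRank_tensorPow {E : X.Modules} {r : ℕ} (hE : FlatMod.IsFinLocFreeOfRank r E) :
    ∀ n, FlatMod.IsFinLocFreeOfRank (r ^ n) (CohB1.tensorPow E n)
  | 0 => fun x => ⟨⊤, trivial, ⟨(Scheme.Modules.restrictFunctorIsoPullback _).app _ ≪≫ OX.pullUnitIso _ ≪≫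
      (coproductUniqueIso fun _ : Fin 1 => Coh.structureModule _).symm⟩⟩
  | n + 1 => isFinLocFreeOfRank_tensor (isFinLocFreeOfRank_tensorPow hE n) hE

/-- Tensor powers preserve monomorphisms of bundles. -/
theorem exists_mono_tensorPow {F E : X.Modules} (hF : FlatMod.IsFinLocFree F) (hE : FlatMod.IsFinLocFree E)
    (i : F ⟶ E) [Mono i] : ∀ n, ∃ j : CohB1.tensorPow F n ⟶ CohB1.tensorPow E n, Mono j
  | 0 => ⟨𝟙 _, inferInstance⟩
  | n + 1 => by
    obtain ⟨j, hj⟩ := exists_mono_tensorPow hF hE i n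
    have hflat : ∀ G : X.Modules, FlatMod.IsFinLocFree G → PreservesFiniteLimits ((DCoh.tensorBi (X := X)).flip.obj G) := fun G hG => by
      let L := (DCoh.tensorBi (X := X)).flip.obj G
      have : L.Additive := Functor.additive_of_iso ((OX.tensorBraiding (X := X)).app G).symm
      obtain ⟨h₁, -⟩ : PreservesFiniteLimits L ∧ PreservesFiniteColimits L :=
        (L.exact_tfae.out 0 3).1 fun S hS => OX.tensor_map_shortExact (OX.flat_of_isFinLocFree hG) hS
      exact h₁
    have := hflat F hF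
    have := hflat _ (isFinLocFree_tensorPow hE n)
    let G := CohB1.tensorPow E n
    haveI : PreservesFiniteLimits ((DCoh.tensorBi (X := X)).obj G) :=
      preservesFiniteLimits_of_natIso ((OX.tensorBraiding (X := X)).app G)
    haveI : Mono (((DCoh.tensorBi (X := X)).flip.obj F).map j) := inferInstance
    haveI : Mono (((DCoh.tensorBi (X := X)).obj G).map i) := inferInstance
    exact ⟨((DCoh.tensorBi (X := X)).flip.obj F).map j ≫ ((DCoh.tensorBi (X := X)).obj G).map i, mono_comp _ _⟩

variable (k : Type u) [Field k] [X.Over (Spec (CommRingCat.of k))] [IsIntegral X]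

/-- Subbundles have slope at most `M`. -/
def SubUp (M : ℤ) (F : X.Modules) : Prop :=
  ∀ (G : X.Modules) (r' : ℕ) (i : G ⟶ F), Mono i → 0 < r' → FlatMod.IsFinLocFreeOfRank r' G →
    (Curv2.deg k X G r' : ℚ) / r' ≤ M

/-- The two bounds. -/
def Bd (M : ℤ) (F : X.Modules) : Prop := SubUp k M F ∧ -M * grank F ≤ degree k F

variable [IsProper (X ↘ Spec (CommRingCat.of k))]

include k in
theorem grank_of_isZero' {Z : X.Modules} (hZ : IsZero Z) : grank Z = 0 := by
  haveI := isLocallyNoetherian k (X := X)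
  let S := ShortComplex.mk (0 : Z ⟶ Z) (0 : Z ⟶ Z) zero_comp
  have hS : S.ShortExact :=
    { exact := ShortComplex.exact_of_isZero_X₂ S hZ
      mono_f := ⟨fun a b _ => hZ.eq_of_tgt a b⟩
      epi_g := ⟨fun a b _ => hZ.eq_of_src a b⟩ }
  have h : grank Z = grank Z + grank Z := grank_additive hS (Euler.isCoh_of_isZero (X := X) hZ)
  omega

theorem grank_degree_biprod {A B : X.Modules} (hA : Coh.IsCoh A) (hB : Coh.IsCoh B) :
    grank (A ⊞ B) = grank A + grank B ∧ degree k (A ⊞ B) = degree k A + degree k B := by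
  haveI := isLocallyNoetherian k (X := X)
  let S : ShortComplex X.Modules := ShortComplex.mk (biprod.inl : A ⟶ A ⊞ B) biprod.snd biprod.inl_snd
  let σ : S.Splitting := ShortComplex.Splitting.ofHasBinaryBiproduct A B
  have hS : S.ShortExact := σ.shortExact
  have hc : Coh.IsCoh S.X₂ := QCoh.isCoh_biprod' hA hB
  exact ⟨grank_additive (S := S) hS hc, degree_additive (S := S) k hS hA hc hB⟩

omit [IsProper (X ↘ Spec (CommRingCat.of k))] in
theorem lo_add (M : ℤ) {A B : X.Modules} (h1 : grank (A ⊞ B) = grank A + grank B)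
    (h2 : degree k (A ⊞ B) = degree k A + degree k B) (hA : -M * grank A ≤ degree k A)
    (hB : -M * grank B ≤ degree k B) : -M * grank (A ⊞ B) ≤ degree k (A ⊞ B) := by
  rw [h1, h2, Nat.cast_add, mul_add]
  exact add_le_add hA hB

theorem bd_lsum (hpid : ∀ x : X, IsPrincipalIdealRing (X.presheaf.stalk x)) (M : ℤ) :
    ∀ l : List X.Modules, FlatMod.IsFinLocFree (lsum l) → (∀ a ∈ l, FlatMod.IsFinLocFree a → Bd k M a) →
      Bd k M (lsum l)
  | [], _, _ => by
    refine ⟨fun G r' i hi hr' hG => absurd ?_ hr'.ne', ?_⟩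
    · haveI := hi
      have hGz : IsZero G := IsZero.of_mono i isZero_lsum_nil
      have h := grank_of_isZero' k hGz
      rwa [grank_of_locFree hG] at h
    · rw [grank_of_isZero' k isZero_lsum_nil, degree_of_isZero k isZero_lsum_nil]; simp
  | a :: l, h, hb => by
    haveI := isLocallyNoetherian k (X := X)
    have ha : FlatMod.IsFinLocFree a :=
      isFinLocFree_of_retract (biprod.inl : a ⟶ a ⊞ lsum l) biprod.fst biprod.inl_fst h
    have hl : FlatMod.IsFinLocFree (lsum l) :=
      isFinLocFree_of_retract (biprod.inr : lsum l ⟶ a ⊞ lsum l) biprod.snd biprod.inr_snd h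
    obtain ⟨hau, hal⟩ := hb a (List.mem_cons_self ..) ha
    obtain ⟨hlu, hll⟩ := bd_lsum hpid M l hl fun b hb' => hb b (List.mem_cons_of_mem _ hb')
    refine ⟨?_, ?_⟩
    · have key : ∀ (G : X.Modules) (r' : ℕ) (i : G ⟶ a ⊞ lsum l), Mono i → 0 < r' →
          FlatMod.IsFinLocFreeOfRank r' G → (Curv2.deg k X G r' : ℚ) / r' ≤ M := by
        intro G r' i hi hr' hG
        haveI := hi
        exact slope_biprod_le (E₁ := a) (E₂ := lsum l) (F := G) k hpid hl (M : ℚ) hau hlu i hr' hG
      exact key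
    · obtain ⟨h1, h2⟩ := grank_degree_biprod k (A := a) (B := lsum l) (Euler.isCoh_of_isFinLocFree ha)
        (Euler.isCoh_of_isFinLocFree hl)
      exact lo_add k M (A := a) (B := lsum l) h1 h2 hal hll

theorem exists_bound (hd : topologicalKrullDim X ≤ 1) (hpid : ∀ x : X, IsPrincipalIdealRing (X.presheaf.stalk x))
    {E : X.Modules} (hE : FlatMod.IsFinLocFree E) (hT : FinType k E) :
    ∃ M : ℤ, ∀ n, Bd k M (CohB1.tensorPow E n) := by
  classical
  haveI := isLocallyNoetherian k (X := X)
  obtain ⟨s, hs, hmem⟩ := hT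
  let B : Cls X.Modules → ℤ := fun c =>
    (Module.finrank k (Coh.HH X c.out 0) : ℤ) + Curv2.genus k X + |degree k c.out|
  have hB0 : ∀ c, 0 ≤ B c := fun c => by
    have := abs_nonneg (degree k c.out)
    simp only [B]
    omega
  refine ⟨∑ c ∈ hs.toFinset, B c, fun n => ?_⟩
  let M := ∑ c ∈ hs.toFinset, B c
  have hEn := isFinLocFree_tensorPow hE n
  obtain ⟨l, ⟨el⟩, hl⟩ := exists_rep_list k (finEnd_of_isFinLocFree k hEn)
  have hll : FlatMod.IsFinLocFree (lsum l) := isFinLocFree_of_retract el.inv el.hom el.inv_hom_id hEn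
  obtain ⟨hu, hlo⟩ := bd_lsum k hpid M l hll fun a ha hflf => by
    have hBM : B (cls a) ≤ M :=
      Finset.single_le_sum (fun c _ => hB0 c) (hs.mem_toFinset.2 (hmem n _ (hl a ha).2.2))
    have ea : (cls a).out ≅ a := (Quotient.mk_out (s := isIsomorphicSetoid X.Modules) a).some
    have hac := Euler.isCoh_of_isFinLocFree hflf
    have hoc : Coh.IsCoh (cls a).out := QCoh.isCoh_of_iso ea.symm hac
    constructor
    · intro G r' i hi hr' hG
      haveI := hi
      have h1 := deg_le_of_sub k hd (i ≫ ea.inv) hG hoc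
      have hr : (1 : ℤ) ≤ r' := by exact_mod_cast hr'
      have h3 : Curv2.deg k X G r' ≤ M * r' := by
        have hb := abs_nonneg (degree k (cls a).out)
        have hg : (0 : ℤ) ≤ Module.finrank k (Coh.HH X (cls a).out 0) := by positivity
        have h4 : (Module.finrank k (Coh.HH X (cls a).out 0) : ℤ) ≤ r' * Module.finrank k (Coh.HH X (cls a).out 0) :=
          le_mul_of_one_le_left hg hr
        have h5 : (r' : ℤ) * B (cls a) ≤ r' * M := mul_le_mul_of_nonneg_left hBM (by omega)
        have h6 : (0 : ℤ) ≤ r' * |degree k (cls a).out| := by positivity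
        simp only [B] at h5
        rw [mul_sub, mul_one] at h1
        rw [mul_add, mul_add] at h5
        rw [mul_comm M]
        linarith
      rw [div_le_iff₀ (by exact_mod_cast hr')]
      exact_mod_cast h3
    · haveI : Mono (𝟙 a) := inferInstance
      have hrk := isFinLocFreeOfRank_of_mono hpid (𝟙 a) hac hflf
      have hpos : 1 ≤ grank a := Nat.one_le_iff_ne_zero.2 fun h0 => by
        rw [h0] at hrk
        exact (hl a ha).1.1 (isZero_of_rank_zero hrk)
      have hdeg : degree k (cls a).out = degree k a := by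
        rw [degree, degree, grank_of_iso ea, Euler.euler_of_iso k ea]
      have h1 : -M ≤ degree k a := by
        have := neg_abs_le (degree k a)
        have hb : |degree k a| ≤ M := by
          refine le_trans ?_ hBM
          simp only [B, hdeg]
          omega
        omega
      have h2 : M * 1 ≤ M * (grank a : ℤ) :=
        mul_le_mul_of_nonneg_left (by exact_mod_cast hpos) ((hB0 (cls a)).trans hBM)
      linarith
  refine ⟨fun G r' i hi hr' hG => hu G r' (i ≫ el.hom) (by haveI := hi; exact mono_comp _ _) hr' hG, ?_⟩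
  rw [degree, grank_of_iso el, Euler.euler_of_iso k el]
  exact hlo

theorem deg_tensorPow_succ (hd : topologicalKrullDim X ≤ 1) {E : X.Modules} {r : ℕ} (hE : FlatMod.IsFinLocFreeOfRank r E) :
    ∀ n : ℕ, Curv2.deg k X (CohB1.tensorPow E (n + 1)) (r ^ (n + 1)) = (n + 1) * (r : ℤ) ^ n * Curv2.deg k X E r := by
  intro n
  induction n with
  | zero =>
    have h := Groth.Agent.S7637.result k X hd (r ^ 0) r _ E (isFinLocFreeOfRank_tensorPow hE 0) hE
    rw [← pow_succ] at h
    refine h.trans ?_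
    have h0 : Curv2.deg k X (CohB1.tensorPow E 0) (r ^ 0) = 0 := by
      simp [Curv2.deg, CohB1.tensorPow]
    rw [h0]
    simp
  | succ n ih =>
    have h := Groth.Agent.S7637.result k X hd (r ^ (n + 1)) r _ E (isFinLocFreeOfRank_tensorPow hE (n + 1)) hE
    rw [← pow_succ] at h
    refine h.trans ?_
    rw [ih]
    push_cast
    ring

/-- **A bundle finite in the sense of Weil has degree zero and is semistable.** -/
theorem deg_zero_and_subLe (hd : topologicalKrullDim X ≤ 1) (hpid : ∀ x : X, IsPrincipalIdealRing (X.presheaf.stalk x))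
    {E : X.Modules} {r : ℕ} (hr : 0 < r) (hE : FlatMod.IsFinLocFreeOfRank r E) (hT : FinType k E) :
    Curv2.deg k X E r = 0 ∧ SubLe k E (Curv2.deg k X E r) r := by
  have hE' := FinCov.isFinLocFree_of_rank hE
  obtain ⟨M, hM⟩ := exists_bound k hd hpid hE' hT
  have hrZ : (0 : ℤ) < r := by exact_mod_cast hr
  have hup : ∀ (F : X.Modules) (r' : ℕ) (i : F ⟶ E), Mono i → 0 < r' → FlatMod.IsFinLocFreeOfRank r' F →
      Curv2.deg k X F r' ≤ 0 := fun F r' i hi hr' hF => by
    by_contra hlt
    haveI := hi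
    have hr'Z : (0 : ℤ) < r' := by exact_mod_cast hr'
    let n := (M * r').toNat
    obtain ⟨j, hj⟩ := exists_mono_tensorPow (FinCov.isFinLocFree_of_rank hF) hE' i (n + 1)
    have h := (hM (n + 1)).1 _ _ j hj (pow_pos hr' _) (isFinLocFreeOfRank_tensorPow hF (n + 1))
    rw [deg_tensorPow_succ k hd hF, div_le_iff₀ (by positivity)] at h
    have h' : ((n : ℤ) + 1) * (r' : ℤ) ^ n * Curv2.deg k X F r' ≤ M * (r' : ℤ) ^ (n + 1) := by exact_mod_cast h
    rw [pow_succ] at h'
    have h2 : ((n : ℤ) + 1) * Curv2.deg k X F r' ≤ M * r' := le_of_mul_le_mul_left (by linarith) (pow_pos hr'Z n)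
    have h3 : M * (r' : ℤ) < n + 1 := by simp only [n]; omega
    nlinarith [not_le.1 hlt]
  have hd0 : Curv2.deg k X E r = 0 := by
    refine le_antisymm (hup E r (𝟙 E) inferInstance hr hE) ?_
    by_contra hlt
    let n := (M * r).toNat
    have h := (hM (n + 1)).2
    have hrk := isFinLocFreeOfRank_tensorPow hE (n + 1)
    rw [grank_of_locFree hrk, ← deg_eq_degree k hrk, deg_tensorPow_succ k hd hE, Nat.cast_pow, pow_succ] at h
    have h2 : -M * (r : ℤ) ≤ ((n : ℤ) + 1) * Curv2.deg k X E r := le_of_mul_le_mul_left (by linarith) (pow_pos hrZ n)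
    have h3 : M * (r : ℤ) < n + 1 := by simp only [n]; omega
    nlinarith [not_le.1 hlt]
  refine ⟨hd0, fun F r' i hi hr' hF => ?_⟩
  rw [hd0, zero_mul]
  exact mul_nonpos_of_nonpos_of_nonneg (hup F r' i hi hr' hF) (by positivity)

end GrothLib.WeilFin11
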