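import Groth.Agent.Lib.ASBun21.KrullSchmidt
import Groth.Agent.Lib.ASBun21.HomFinite

/-!
# Multisets of indecomposable summands
-/

set_option autoImplicit false
set_option linter.all false
set_option backward.isDefEq.respectTransparency false

universe v w x

open CategoryTheory CategoryTheory.Limits
open GrothLib.ASBun21

noncomputable section

namespace GrothLib.WeilFin11

attribute [local instance] Abelian.hasFiniteBiproducts

variable {C : Type x} [Category.{v} C] [Abelian C] (k : Type w) [Field k] [Linear k C]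

/-- Finite dimensional endomorphisms. -/
def FinEnd (M : C) : Prop := Module.Finite k (M ⟶ M)

/-- Isomorphism classes. -/
abbrev Cls (C : Type x) [Category.{v} C] := Quotient (isIsomorphicSetoid C)

theorem FinEnd.of_retract {E F : C} (h : FinEnd k F) (i : E ⟶ F) (p : F ⟶ E) (hip : i ≫ p = 𝟙 E) : FinEnd k E :=
  haveI : Module.Finite k (F ⟶ F) := h
  finite_end_of_retract k i p hip

theorem FinEnd.of_iso {E F : C} (h : FinEnd k F) (e : E ≅ F) : FinEnd k E :=
  h.of_retract k e.hom e.inv e.hom_inv_id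

theorem FinEnd.left {A B : C} (h : FinEnd k (A ⊞ B)) : FinEnd k A :=
  h.of_retract k biprod.inl biprod.fst biprod.inl_fst

theorem FinEnd.right {A B : C} (h : FinEnd k (A ⊞ B)) : FinEnd k B :=
  h.of_retract k biprod.inr biprod.snd biprod.inr_snd

/-- The multiset of classes of the indecomposable summands. -/
def ks (M : C) : Multiset (Cls C) :=
  open Classical in
  if h : FinEnd k M then
    (((@exists_decomp _ _ _ k _ _ M h).choose.map cls : List _) : Multiset (Cls C))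
  else 0

theorem exists_mem_decomp (M : C) (h : FinEnd k M) : ∃ l : List C, (∀ a ∈ l, Indec a ∧ Module.Finite k (a ⟶ a)) ∧
    Nonempty (M ≅ lsum l) ∧ ks k M = ((l.map cls : List _) : Multiset (Cls C)) := by
  haveI : Module.Finite k (M ⟶ M) := h
  exact ⟨_, (exists_decomp k M).choose_spec.1, (exists_decomp k M).choose_spec.2, by rw [ks, dif_pos h]⟩

theorem ks_eq {M : C} (h : FinEnd k M) {l : List C} (hl : ∀ a ∈ l, Indec a) (e : Nonempty (M ≅ lsum l)) :
    ks k M = ((l.map cls : List _) : Multiset (Cls C)) := by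
  obtain ⟨m, hm, ⟨em⟩, hks⟩ := exists_mem_decomp k M h
  rw [hks, Multiset.coe_eq_coe]
  exact map_cls_perm k m l (fun a ha => (hm a ha).1) (fun a ha => (hm a ha).2) hl ⟨em.symm ≪≫ e.some⟩

theorem ks_iso {M N : C} (hN : FinEnd k N) (e : M ≅ N) : ks k M = ks k N := by
  obtain ⟨l, hl, ⟨el⟩, hks⟩ := exists_mem_decomp k N hN
  rw [hks, ks_eq k (hN.of_iso k e) (fun a ha => (hl a ha).1) ⟨e ≪≫ el⟩]

theorem ks_biprod {A B : C} (h : FinEnd k (A ⊞ B)) : ks k (A ⊞ B) = ks k A + ks k B := by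
  obtain ⟨l, hl, ⟨el⟩, hA⟩ := exists_mem_decomp k A (h.left k)
  obtain ⟨m, hm, ⟨em⟩, hB⟩ := exists_mem_decomp k B (h.right k)
  rw [hA, hB, Multiset.coe_add, ← List.map_append]
  exact ks_eq k h (fun a ha => (List.mem_append.1 ha).elim (fun h => (hl a h).1) (fun h => (hm a h).1))
    ⟨biprod.mapIso el em ≪≫ (nonempty_lsum_append l m).some.symm⟩

theorem ks_zero {M : C} (hz : IsZero M) : ks k M = 0 := by
  have h : FinEnd k M := by
    haveI : Subsingleton (M ⟶ M) := ⟨fun a b => hz.eq_of_src a b⟩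
    exact ⟨⟨∅, Subsingleton.elim _ _⟩⟩
  rw [ks_eq k h (l := []) (by simp) ⟨hz.iso isZero_lsum_nil⟩]
  rfl

theorem ks_indec {A : C} (hA : Indec A) (h : FinEnd k A) : ks k A = {cls A} :=
  ks_eq k h (l := [A]) (by simpa using hA) (nonempty_iso_lsum_singleton A)

theorem ks_lsum : ∀ (l : List C), FinEnd k (lsum l) → ks k (lsum l) = (l.map (ks k)).sum
  | [], _ => by rw [List.map_nil, List.sum_nil]; exact ks_zero k isZero_lsum_nil
  | a :: l, h => by
    rw [List.map_cons, List.sum_cons, ← ks_lsum l (FinEnd.right k (A := a) h)]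
    exact ks_biprod k (A := a) (B := lsum l) h

/-- The indecomposable representatives. -/
theorem exists_rep {M : C} (h : FinEnd k M) {c : Cls C} (hc : c ∈ ks k M) :
    ∃ A : C, cls A = c ∧ Indec A ∧ FinEnd k A := by
  obtain ⟨l, hl, -, hks⟩ := exists_mem_decomp k M h
  rw [hks, Multiset.mem_coe, List.mem_map] at hc
  obtain ⟨A, hA, rfl⟩ := hc
  exact ⟨A, rfl, (hl A hA).1, (hl A hA).2⟩

/-- Decomposition by chosen representatives. -/
theorem exists_rep_list {M : C} (h : FinEnd k M) : ∃ l : List C, Nonempty (M ≅ lsum l) ∧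
    (∀ a ∈ l, Indec a ∧ FinEnd k a ∧ cls a ∈ ks k M) := by
  obtain ⟨l, hl, e, hks⟩ := exists_mem_decomp k M h
  exact ⟨l, e, fun a ha => ⟨(hl a ha).1, (hl a ha).2, by rw [hks]; exact Multiset.mem_coe.2 (List.mem_map.2 ⟨a, ha, rfl⟩)⟩⟩

/-- Summands of a retract are summands. -/
theorem ks_subset_of_retract {M N : C} (hN : FinEnd k N) (i : M ⟶ N) (p : N ⟶ M) (h : i ≫ p = 𝟙 M)
    {c : Cls C} (hc : c ∈ ks k M) : c ∈ ks k N := by
  obtain ⟨l, hl, ⟨el⟩, hM⟩ := exists_mem_decomp k M (hN.of_retract k i p h)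
  obtain ⟨m, hm, ⟨em⟩, hks⟩ := exists_mem_decomp k N hN
  rw [hM, Multiset.mem_coe, List.mem_map] at hc
  obtain ⟨a, ha, rfl⟩ := hc
  -- `a` as a retract of `M`
  have hret : ∀ (l : List C) (a : C), a ∈ l → ∃ (j : a ⟶ lsum l) (q : lsum l ⟶ a), j ≫ q = 𝟙 a := by
    intro l
    induction l with
    | nil => intro a ha; simp at ha
    | cons b l ih =>
      intro a ha
      rcases List.mem_cons.1 ha with rfl | ha
      · exact ⟨(biprod.inl : a ⟶ a ⊞ lsum l), (biprod.fst : a ⊞ lsum l ⟶ a), biprod.inl_fst⟩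
      · obtain ⟨j, q, hjq⟩ := ih a ha
        refine ⟨j ≫ (biprod.inr : lsum l ⟶ b ⊞ lsum l), (biprod.snd : b ⊞ lsum l ⟶ lsum l) ≫ q, ?_⟩
        rw [Category.assoc, biprod.inr_snd_assoc, hjq]
  obtain ⟨j, q, hjq⟩ := hret l a ha
  haveI := (hl a ha).2
  obtain ⟨b, m', e', hperm, hiso⟩ := exists_component k (hl a ha).1 m (fun x hx => (hm x hx).1)
    (j ≫ el.inv ≫ i ≫ em.hom) (em.inv ≫ p ≫ el.hom ≫ q) (by
      have h1 : (j ≫ el.inv ≫ i ≫ em.hom) ≫ em.inv ≫ p ≫ el.hom ≫ q = 𝟙 a := by simp [reassoc_of% h, hjq]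
      rw [h1]; exact isUnit_one)
  rw [hks, Multiset.mem_coe, List.mem_map]
  exact ⟨b, hperm.mem_iff.2 (List.mem_cons_self ..), (cls_eq.2 ⟨@asIso _ _ _ _ _ hiso⟩).symm⟩

/-- Lists with the same classes have isomorphic sums. -/
theorem nonempty_iso_of_ks_eq {M N : C} (hM : FinEnd k M) (hN : FinEnd k N) (h : ks k M = ks k N) :
    Nonempty (M ≅ N) := by
  obtain ⟨l, -, ⟨el⟩, h1⟩ := exists_mem_decomp k M hM
  obtain ⟨m, -, ⟨em⟩, h2⟩ := exists_mem_decomp k N hN
  rw [h1, h2, Multiset.coe_eq_coe] at h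
  exact ⟨el ≪≫ (nonempty_lsum_of_perm_cls h).some ≪≫ em.symm⟩

/-- An additive functor commutes with finite sums. -/
theorem nonempty_map_lsum {D : Type*} [Category D] [Abelian D] (F : C ⥤ D) [F.Additive] :
    ∀ l : List C, Nonempty (F.obj (lsum l) ≅ lsum (l.map F.obj))
  | [] => ⟨(F.map_isZero isZero_lsum_nil).iso isZero_lsum_nil⟩
  | a :: l => by
    haveI : PreservesBinaryBiproduct a (lsum l) F := preservesBinaryBiproduct_of_preservesBiproduct F a (lsum l)
    exact ⟨F.mapBiprod a (lsum l) ≪≫ biprod.mapIso (Iso.refl _) (nonempty_map_lsum F l).some⟩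

end GrothLib.WeilFin11
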