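import Groth.Agent.Lib.WeilFin11.Semistable
import Groth.Agent.Lib.Euler.Slope2
import Groth.Agent.Lib.OX.SingleDegree
import Mathlib.Algebra.Module.Torsion.Free
import Groth.Prelude.Def_ModFun2

/-!
# Tensor products of essentially finite bundles
-/

set_option autoImplicit false
set_option linter.all false
set_option backward.isDefEq.respectTransparency false

universe u

open CategoryTheory CategoryTheory.Limits AlgebraicGeometry
open GrothLib.Euler GrothLib.ASBun21
open GrothLib.QCoh (stalkLin)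

noncomputable section

namespace GrothLib.WeilFin11

attribute [local instance] Abelian.hasFiniteBiproducts

local notation "T" => CohB1.tensorMod

variable {X : Scheme.{u}}

theorem preservesFiniteLimits_tensor_right {Q : X.Modules} (hQ : FlatMod.IsFinLocFree Q) :
    PreservesFiniteLimits ((DCoh.tensorBi (X := X)).flip.obj Q) := by
  let F := (DCoh.tensorBi (X := X)).flip.obj Q
  have : F.Additive := Functor.additive_of_iso ((OX.tensorBraiding (X := X)).app Q).symm
  obtain ⟨h₁, -⟩ : PreservesFiniteLimits F ∧ PreservesFiniteColimits F :=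
    (F.exact_tfae.out 0 3).1 fun S hS => OX.tensor_map_shortExact (OX.flat_of_isFinLocFree hQ) hS
  exact h₁

theorem preservesFiniteLimits_tensor_left {Q : X.Modules} (hQ : FlatMod.IsFinLocFree Q) :
    PreservesFiniteLimits ((DCoh.tensorBi (X := X)).obj Q) :=
  haveI := preservesFiniteLimits_tensor_right hQ
  preservesFiniteLimits_of_natIso ((OX.tensorBraiding (X := X)).app Q)

theorem preservesFiniteColimits_tensor_right (Q : X.Modules) :
    PreservesFiniteColimits ((DCoh.tensorBi (X := X)).flip.obj Q) := by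
  haveI := OX.preservesColimitsOfSize_tensorBi_flip_obj Q
  haveI : PreservesColimitsOfSize.{0, 0} ((DCoh.tensorBi (X := X)).flip.obj Q) := preservesSmallestColimits_of_preservesColimits _
  exact inferInstance

theorem preservesFiniteColimits_tensor_left (Q : X.Modules) :
    PreservesFiniteColimits ((DCoh.tensorBi (X := X)).obj Q) :=
  haveI := preservesFiniteColimits_tensor_right Q
  preservesFiniteColimits_of_natIso ((OX.tensorBraiding (X := X)).app Q)

variable (k : Type u) [Field k] [X.Over (Spec (CommRingCat.of k))] [IsIntegral X]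
  [IsProper (X ↘ Spec (CommRingCat.of k))]

include k in
/-- A composite of inclusions with locally free cokernels has locally free cokernel. -/
theorem isFinLocFree_cokernel_comp (hpid : ∀ x : X, IsPrincipalIdealRing (X.presheaf.stalk x))
    {F G H : X.Modules} (a : F ⟶ G) (b : G ⟶ H) [Mono a] [Mono b] (hF : FlatMod.IsFinLocFree F)
    (hH : FlatMod.IsFinLocFree H) (ha : FlatMod.IsFinLocFree (cokernel a))
    (hb : FlatMod.IsFinLocFree (cokernel b)) : FlatMod.IsFinLocFree (cokernel (a ≫ b)) := by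
  haveI := isLocallyNoetherian k (X := X)
  refine FinCov.isFinLocFree_of_rank (isFinLocFreeOfRank_of_torsionFree hpid
    (QCoh.isCoh_cokernel (a ≫ b) (Euler.isCoh_of_isFinLocFree hF) (Euler.isCoh_of_isFinLocFree hH)) fun x => ?_)
  have hta := isTorsionFree_of_mono (𝟙 (cokernel a)) ha x
  have htb := isTorsionFree_of_mono (𝟙 (cokernel b)) hb x
  haveI := hta
  haveI := htb
  have hex : ∀ {A B : X.Modules} (f : A ⟶ B) [Mono f], Function.Exact (stalkLin f x) (stalkLin (cokernel.π f) x) ∧
      Function.Surjective (stalkLin (cokernel.π f) x) := fun f _ =>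
    ⟨(ShortComplex.ShortExact.moduleCat_exact_iff_function_exact _).1 ((OX.exact_iff _).1 (cokernel_shortExact f).exact x),
      QCoh.stalkLin_surjective (cokernel.π f) x⟩
  obtain ⟨eab, sab⟩ := hex (a ≫ b)
  obtain ⟨ea, -⟩ := hex a
  obtain ⟨eb, -⟩ := hex b
  refine Module.IsTorsionFree.of_smul_eq_zero fun r c hrc => or_iff_not_imp_left.2 fun hr => ?_
  obtain ⟨h, rfl⟩ := sab c
  rw [← map_smul] at hrc
  obtain ⟨f, hf⟩ := (eab _).1 hrc
  rw [QCoh.stalkLin_comp] at hf
  have h1 : r • stalkLin (cokernel.π b) x h = 0 := by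
    rw [← map_smul, ← hf]
    exact eb.apply_apply_eq_zero _
  obtain ⟨g, rfl⟩ := (eb _).1 ((smul_eq_zero.1 h1).resolve_left hr)
  rw [← map_smul] at hf
  have h2 := QCoh.stalkLin_injective b x hf
  have h3 : r • stalkLin (cokernel.π a) x g = 0 := by
    rw [← map_smul, ← h2]
    exact ea.apply_apply_eq_zero _
  obtain ⟨f', rfl⟩ := (ea _).1 ((smul_eq_zero.1 h3).resolve_left hr)
  rw [← QCoh.stalkLin_comp a b]
  exact eab.apply_apply_eq_zero _

/-- Degree zero and no subbundle of positive degree. -/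
def SS0 (F : X.Modules) : Prop :=
  degree k F = 0 ∧ ∀ (G : X.Modules) (r' : ℕ) (i : G ⟶ F), Mono i → FlatMod.IsFinLocFreeOfRank r' G → degree k G ≤ 0

theorem ss0_of {F : X.Modules} {r : ℕ} (hF : FlatMod.IsFinLocFreeOfRank r F) (hd : Curv2.deg k X F r = 0)
    (hss : ModFun.IsSlopeSemistable k X F r) : SS0 k F := by
  refine ⟨by rw [← deg_eq_degree k hF, hd], fun G r' i hi hG => ?_⟩
  rcases Nat.eq_zero_or_pos r' with rfl | hpos
  · rw [degree_of_isZero k (isZero_of_rank_zero hG)]
  · haveI := hi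
    haveI := isLocallyNoetherian k (X := X)
    have hle : r' ≤ r := by
      have := grank_le_of_mono i (Euler.isCoh_of_isFinLocFree (FinCov.isFinLocFree_of_rank hF))
      rwa [grank_of_locFree hG, grank_of_locFree hF] at this
    have h := hss G r' i hi hpos hG
    rw [hd, zero_mul] at h
    rw [← deg_eq_degree k hG]
    exact nonpos_of_mul_nonpos_left h (by exact_mod_cast hpos.trans_le hle)

theorem SS0.spec {F : X.Modules} (h : SS0 k F) {r : ℕ} (hF : FlatMod.IsFinLocFreeOfRank r F) :
    Curv2.deg k X F r = 0 ∧ ModFun.IsSlopeSemistable k X F r := by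
  have hd : Curv2.deg k X F r = 0 := by rw [deg_eq_degree k hF, h.1]
  refine ⟨hd, fun G r' i hi hr' hG => ?_⟩
  rw [hd, zero_mul, deg_eq_degree k hG]
  exact mul_nonpos_of_nonpos_of_nonneg (h.2 G r' i hi hG) (by positivity)

omit [IsProper (X ↘ Spec (CommRingCat.of k))] in
theorem SS0.of_mono {F E : X.Modules} (h : SS0 k E) (i : F ⟶ E) [Mono i] (hd : degree k F = 0) : SS0 k F :=
  ⟨hd, fun G r' j hj hG => h.2 G r' (j ≫ i) (by haveI := hj; exact mono_comp _ _) hG⟩

/-- Quotients of degree zero. -/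
theorem SS0.of_epi (hpid : ∀ x : X, IsPrincipalIdealRing (X.presheaf.stalk x)) {F E : X.Modules}
    (hF : FlatMod.IsFinLocFree F) (hE : FlatMod.IsFinLocFree E) (h : SS0 k F) (p : F ⟶ E) [Epi p]
    (hd : degree k E = 0) : SS0 k E := by
  haveI := isLocallyNoetherian k (X := X)
  refine ⟨hd, fun G r' j hj hG => ?_⟩
  haveI := hj
  have hFc := Euler.isCoh_of_isFinLocFree hF
  have hEc := Euler.isCoh_of_isFinLocFree hE
  have hGc := Euler.isCoh_of_isFinLocFree (FinCov.isFinLocFree_of_rank hG)
  have hQc := QCoh.isCoh_cokernel j hGc hEc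
  let q := p ≫ cokernel.π j
  have hPc := QCoh.isCoh_kernel q hFc hQc
  obtain ⟨d1, -⟩ := degree_quotient k _ _ _ (kernel_shortExact q) hPc hFc hQc
  obtain ⟨d2, -⟩ := degree_quotient k _ _ _ (cokernel_shortExact j) hGc hEc hQc
  have hP := h.2 _ _ (kernel.ι q) inferInstance (isFinLocFreeOfRank_of_mono hpid (kernel.ι q) hPc hF)
  rw [h.1] at d1
  rw [hd] at d2
  omega

theorem degree_tensor (hd : topologicalKrullDim X ≤ 1) {A B : X.Modules} {a b : ℕ}
    (hA : FlatMod.IsFinLocFreeOfRank a A) (hB : FlatMod.IsFinLocFreeOfRank b B) :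
    degree k (T A B) = a * degree k B + b * degree k A := by
  rw [← deg_eq_degree k (isFinLocFreeOfRank_tensor hA hB), Groth.Agent.S7637.result k X hd a b A B hA hB,
    deg_eq_degree k hA, deg_eq_degree k hB]

/-- The data. -/
structure EssData (E : X.Modules) : Prop where
  out : ∃ (s : ℕ) (G : X.Modules) (s₁ : ℕ) (F₁ : X.Modules) (s₂ : ℕ) (F₂ : X.Modules) (i₁ : F₁ ⟶ G) (i₂ : F₂ ⟶ F₁),
    FlatMod.IsFinLocFreeOfRank s G ∧ FinType k G ∧
    FlatMod.IsFinLocFreeOfRank s₁ F₁ ∧ FlatMod.IsFinLocFreeOfRank s₂ F₂ ∧ Mono i₁ ∧ Mono i₂ ∧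
    FlatMod.IsFinLocFree (cokernel i₁) ∧ FlatMod.IsFinLocFree (cokernel i₂) ∧
    SS0 k F₁ ∧ SS0 k F₂ ∧ Nonempty (E ≅ cokernel i₂)

theorem ss0_of_finType (hd : topologicalKrullDim X ≤ 1) (hpid : ∀ x : X, IsPrincipalIdealRing (X.presheaf.stalk x))
    {G : X.Modules} {s : ℕ} (hG : FlatMod.IsFinLocFreeOfRank s G) (hT : FinType k G) : SS0 k G := by
  haveI := isLocallyNoetherian k (X := X)
  rcases Nat.eq_zero_or_pos s with rfl | hs
  · refine ⟨degree_of_isZero k (isZero_of_rank_zero hG), fun A r' i hi hA => ?_⟩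
    haveI := hi
    rw [degree_of_isZero k (IsZero.of_mono i (isZero_of_rank_zero hG))]
  · obtain ⟨h1, h2⟩ := deg_zero_and_subLe k hd hpid hs hG hT
    exact ss0_of k hG h1 h2

/-- **The tensor product of essentially finite bundles.** -/
theorem EssData.tensor (hd : topologicalKrullDim X ≤ 1) (hpid : ∀ x : X, IsPrincipalIdealRing (X.presheaf.stalk x))
    {E E' : X.Modules} {r r' : ℕ} (hE : FlatMod.IsFinLocFreeOfRank r E) (hE' : FlatMod.IsFinLocFreeOfRank r' E')
    (h0 : degree k E = 0) (h0' : degree k E' = 0) (h : EssData k E) (h' : EssData k E') :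
    SS0 k (T E E') ∧ EssData k (T E E') := by
  haveI := isLocallyNoetherian k (X := X)
  obtain ⟨s, G, a, F, c, K, i, j, hG, hGT, hF, hK, hi, hj, hci, hcj, hFs, hKs, ⟨e⟩⟩ := h
  obtain ⟨s', G', a', F', c', K', i', j', hG', hGT', hF', hK', hi', hj', hci', hcj', hFs', hKs', ⟨e'⟩⟩ := h'
  have hGl := FinCov.isFinLocFree_of_rank hG
  have hGl' := FinCov.isFinLocFree_of_rank hG'
  have hFl := FinCov.isFinLocFree_of_rank hF
  have hFl' := FinCov.isFinLocFree_of_rank hF'
  have hEl := FinCov.isFinLocFree_of_rank hE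
  have hEl' := FinCov.isFinLocFree_of_rank hE'
  let B := DCoh.tensorBi (X := X)
  haveI := preservesFiniteLimits_tensor_right hFl'
  haveI := preservesFiniteLimits_tensor_left hGl
  haveI := preservesFiniteColimits_tensor_right F'
  haveI := preservesFiniteColimits_tensor_right E'
  haveI := preservesFiniteColimits_tensor_left F
  haveI := preservesFiniteColimits_tensor_left G
  let u : T F F' ⟶ T G F' := (B.flip.obj F').map i
  let v : T G F' ⟶ T G G' := (B.obj G).map i'
  haveI : Mono u := inferInstanceAs (Mono ((B.flip.obj F').map i))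
  haveI : Mono v := inferInstanceAs (Mono ((B.obj G).map i'))
  haveI := Functor.additive_of_iso ((OX.tensorBraiding (X := X)).app F').symm
  have hu : FlatMod.IsFinLocFree (cokernel u) :=
    DCoh.isFinLocFree_of_iso (PreservesCokernel.iso (B.flip.obj F') i) (OX.isFinLocFree_tensor hci hFl')
  have hv : FlatMod.IsFinLocFree (cokernel v) :=
    DCoh.isFinLocFree_of_iso (PreservesCokernel.iso (B.obj G) i') (OX.isFinLocFree_tensor hGl hci')
  have hFF := isFinLocFreeOfRank_tensor hF hF'
  have hGG := isFinLocFreeOfRank_tensor hG hG'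
  have hFFl := FinCov.isFinLocFree_of_rank hFF
  have hEE := isFinLocFreeOfRank_tensor hE hE'
  have hEEl := FinCov.isFinLocFree_of_rank hEE
  have hGGs := ss0_of_finType k hd hpid hGG (FinType.tensor k hGl hGl' hGT hGT')
  have hd1 : degree k (T F F') = 0 := by rw [degree_tensor k hd hF hF', hFs.1, hFs'.1]; simp
  have hd3 : degree k (T E E') = 0 := by rw [degree_tensor k hd hE hE', h0, h0']; simp
  have hFFs : SS0 k (T F F') := hGGs.of_mono k (u ≫ v) hd1
  let p : F ⟶ E := cokernel.π j ≫ e.inv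
  let p' : F' ⟶ E' := cokernel.π j' ≫ e'.inv
  haveI : Epi p := epi_comp _ _
  haveI : Epi p' := epi_comp _ _
  let q : T F F' ⟶ T E E' := (B.obj F).map p' ≫ (B.flip.obj E').map p
  haveI : Epi ((B.obj F).map p') := inferInstance
  haveI : Epi ((B.flip.obj E').map p) := inferInstance
  haveI : Epi q := epi_comp _ _
  have hkl := OX.isFinLocFree_kernel q hFFl hEEl
  have hkc := Euler.isCoh_of_isFinLocFree hkl
  have hkr := isFinLocFreeOfRank_of_mono hpid (kernel.ι q) hkc hFFl
  obtain ⟨d1, -⟩ := degree_quotient k _ _ _ (kernel_shortExact q) hkc (Euler.isCoh_of_isFinLocFree hFFl)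
    (Euler.isCoh_of_isFinLocFree hEEl)
  have hkd : degree k (kernel q) = 0 := by rw [hd1, hd3] at d1; omega
  let eq : T E E' ≅ cokernel (kernel.ι q) :=
    (IsColimit.coconePointUniqueUpToIso (cokernelIsCokernel (kernel.ι q)) (kernel_shortExact q).gIsCokernel).symm
  refine ⟨hFFs.of_epi k hpid hFFl hEEl q hd3, ⟨s * s', T G G', a * a', T F F', grank (kernel q), kernel q, u ≫ v,
    kernel.ι q, hGG, FinType.tensor k hGl hGl' hGT hGT', hFF, hkr, mono_comp _ _, inferInstance, ?_,
    DCoh.isFinLocFree_of_iso eq hEEl, hFFs, hFFs.of_mono k (kernel.ι q) hkd, ⟨eq⟩⟩⟩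
  exact isFinLocFree_cokernel_comp k hpid u v hFFl (FinCov.isFinLocFree_of_rank hGG) hu hv

end GrothLib.WeilFin11
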