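import Groth.Agent.Lib.WeilFin11.Basic
import Groth.Agent.Lib.SplitPull.Basic
import Groth.Agent.Lib.RelExtTwist20.Basic
import Groth.Agent.Lib.WeakAss.Structure
import Mathlib.Algebra.CharP.Algebra

/-!
# Bundles trivialised by a finite cover of invertible degree are finite
-/

set_option autoImplicit false
set_option linter.all false
set_option backward.isDefEq.respectTransparency false

universe u

open CategoryTheory CategoryTheory.Limits AlgebraicGeometry
open GrothLib.ASBun21 GrothLib.Euler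

noncomputable section

namespace GrothLib.WeilFin11

attribute [local instance] Abelian.hasFiniteBiproducts

variable {X Y : Scheme.{u}} (f : Y ⟶ X)

local notation "T" => CohB1.tensorMod

/-- One copy. -/
def freeOneIso (Z : Scheme.{u}) : Coh.structureModule Z ≅ FlatMod.freeMod Z 1 :=
  (coproductUniqueIso fun _ : Fin 1 => Coh.structureModule Z).symm

theorem nonempty_pullback_tensorPow {E : X.Modules} {r : ℕ}
    (e : (Scheme.Modules.pullback f).obj E ≅ FlatMod.freeMod Y r) :
    ∀ n, Nonempty ((Scheme.Modules.pullback f).obj (CohB1.tensorPow E n) ≅ FlatMod.freeMod Y (r ^ n))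
  | 0 => ⟨OX.pullUnitIso f ≪≫ freeOneIso Y ≪≫ eqToIso (congrArg (FlatMod.freeMod Y) (pow_zero r).symm)⟩
  | n + 1 => by
    obtain ⟨g⟩ := nonempty_pullback_tensorPow e n
    exact ⟨(RelExtTwist20.pullTensorNatIso f E).app (CohB1.tensorPow E n) ≪≫ congrIso g e ≪≫
      OX.tensorFreeIso Y (r ^ n) r ≪≫ eqToIso (congrArg (FlatMod.freeMod Y) (pow_succ r n).symm)⟩

variable (k : Type u) [Field k] [X.Over (Spec (CommRingCat.of k))]

include k in
theorem isUnit_natCast_of_charZero [CharZero k] {d : ℕ} (hd : d ≠ 0) : IsUnit ((d : Γ(X, ⊤))) := by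
  let φ : k →+* Γ(X, ⊤) := ((Scheme.ΓSpecIso (CommRingCat.of k)).inv ≫ (X ↘ Spec (CommRingCat.of k)).appTop).hom
  simpa using (isUnit_iff_ne_zero.2 (Nat.cast_ne_zero.2 hd : (d : k) ≠ 0)).map φ

variable [IsFinite f] [Flat f] [LocallyOfFinitePresentation f]

theorem exists_const_finrank [IrreducibleSpace X] [Surjective f] : ∃ d, d ≠ 0 ∧ ∀ x, f.finrank x = d := by
  obtain ⟨x₀⟩ := (inferInstance : Nonempty X)
  refine ⟨f.finrank x₀, ?_, fun x => f.isLocallyConstant_finrank.apply_eq_of_preconnectedSpace x x₀⟩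
  have h : 1 ≤ f.finrank x₀ := (Scheme.Hom.one_le_finrank_iff_surjective f).2 ‹Surjective f› x₀
  omega

variable [IsProper (X ↘ Spec (CommRingCat.of k))]

/-- **A bundle trivialised by a finite cover of invertible degree is finite.** -/
theorem finType_of_trivial_pullback {d : ℕ} (hd : ∀ x, f.finrank x = d) (hu : IsUnit ((d : Γ(X, ⊤))))
    {E : X.Modules} (hE : FlatMod.IsFinLocFree E) {r : ℕ}
    (e : (Scheme.Modules.pullback f).obj E ≅ FlatMod.freeMod Y r) : FinType k E := by
  classical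
  haveI := isLocallyNoetherian k (X := X)
  let π := (Scheme.Modules.pushforward f).obj (Coh.structureModule Y)
  have hπ : FlatMod.IsFinLocFree π := fun x => by
    obtain ⟨U, hx, he⟩ := FEt21.isFinLocFreeOfRank_of_finrank f d hd x
    exact ⟨U, d, hx, he⟩
  obtain ⟨s, p, hsp⟩ := SplitPull.exists_retract f hd hu
  refine ⟨{c | c ∈ ks k π}, (ks k π).toFinset.finite_toSet.subset fun c hc => Multiset.mem_toFinset.2 hc,
    fun n c hc => ?_⟩
  let L := CohB1.tensorPow E n
  have hL : FlatMod.IsFinLocFree L := isFinLocFree_tensorPow hE n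
  haveI := ProjFormula.isIso_projHom f hL (Coh.structureModule Y)
  obtain ⟨g⟩ := nonempty_pullback_tensorPow f e n
  let F := (DCoh.tensorBi (X := X)).obj L
  let eT : F.obj (Coh.structureModule X) ≅ L :=
    (OX.tensorBraiding.app L).symm.app _ ≪≫ OX.tensorUnitLeftIso L
  let eP : F.obj π ≅ (Scheme.Modules.pushforward f).obj (FlatMod.freeMod Y (r ^ n)) :=
    asIso (ProjFormula.projHom f L (Coh.structureModule Y)) ≪≫ (Scheme.Modules.pushforward f).mapIso
      ((OX.tensorBraiding.app ((Scheme.Modules.pullback f).obj L)).symm.app _ ≪≫ OX.tensorUnitLeftIso _ ≪≫ g)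
  obtain ⟨e'⟩ := nonempty_map_coprod (Scheme.Modules.pushforward f) (fun _ : Fin (r ^ n) => Coh.structureModule Y)
  let eQ : F.obj π ≅ ∐ fun _ : Fin (r ^ n) => π := eP ≪≫ e'
  have hcoh : ∀ _i : Fin (r ^ n), Coh.IsCoh π := fun _ => Euler.isCoh_of_isFinLocFree hπ
  let a : L ⟶ ∐ fun _ : Fin (r ^ n) => π := eT.inv ≫ F.map s ≫ eQ.hom
  let b : (∐ fun _ : Fin (r ^ n) => π) ⟶ L := eQ.inv ≫ F.map p ≫ eT.hom
  have hab : a ≫ b = 𝟙 L := by
    simp only [a, b, Category.assoc, Iso.hom_inv_id_assoc]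
    rw [← Functor.map_comp_assoc, hsp, CategoryTheory.Functor.map_id, Category.id_comp, Iso.inv_hom_id]
  have hmem := ks_subset_of_retract k (finEnd_of_isCoh k (isCoh_coprod k _ hcoh)) a b hab hc
  rw [ks_coprod k _ hcoh, Finset.sum_const, Multiset.mem_nsmul] at hmem
  exact hmem.2

end GrothLib.WeilFin11
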