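import Groth.Agent.Lib.WeilFin11.Pushforward
import Groth.Agent.Lib.Torsor21.ExtendFinite
import Groth.Agent.Lib.AffBC.Basic
import Groth.Agent.Lib.FibTriv28.Fibre
import Groth.Agent.Lib.Snapper.PushEuler
import Groth.Agent.Lib.WeakAss.Structure

/-!
# The tensor square of the direct image of a torsor
-/

set_option autoImplicit false
set_option linter.all false
set_option backward.isDefEq.respectTransparency false

universe u

open CategoryTheory CategoryTheory.Limits AlgebraicGeometry MonoidalCategory CartesianMonoidalCategory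
open GrothLib.ASBun21 GrothLib.Euler

noncomputable section

namespace GrothLib.WeilFin11

attribute [local instance] Abelian.hasFiniteBiproducts

local notation "T" => CohB1.tensorMod

/-- Affine base change of the structure sheaf. -/
def bcStrIso {X S X' S' : Scheme.{u}} {f : X ⟶ S} {g : S' ⟶ S} {g' : X' ⟶ X} {f' : X' ⟶ S'}
    (h : IsPullback g' f' f g) [IsAffineHom f] :
    (Scheme.Modules.pullback g).obj ((Scheme.Modules.pushforward f).obj (Coh.structureModule X)) ≅
      (Scheme.Modules.pushforward f').obj (Coh.structureModule X') :=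
  haveI : (Coh.structureModule X).IsQuasicoherent := WeakAss.isQuasicoherent_structureModule
  haveI := AffBC.isIso_bcMap h (Coh.structureModule X)
  asIso (AffBC.bcMap h (Coh.structureModule X)) ≪≫ (Scheme.Modules.pushforward f').mapIso (OX.pullUnitIso g')

variable (k : Type u) [Field k]

/-- A finite scheme over a field has free direct image. -/
theorem nonempty_pushforward_free {G : Scheme.{u}} [G.Over (Spec (CommRingCat.of k))]
    [IsFinite (G ↘ Spec (CommRingCat.of k))] {n : ℕ}
    (hn : Module.finrank k (Coh.HH G (Coh.structureModule G) 0) = n) :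
    Nonempty ((Scheme.Modules.pushforward (G ↘ Spec (CommRingCat.of k))).obj (Coh.structureModule G) ≅
      FlatMod.freeMod (Spec (CommRingCat.of k)) n) := by
  let B := G ↘ Spec (CommRingCat.of k)
  let W := Spec (CommRingCat.of k)
  haveI : Flat B := inferInstance
  haveI : LocallyOfFinitePresentation B := inferInstance
  let x₀ : W := (⊥ : PrimeSpectrum k)
  haveI : Subsingleton W := inferInstanceAs (Subsingleton (PrimeSpectrum k))
  let d := B.finrank x₀
  have hd : ∀ x, B.finrank x = d := fun x => by rw [Subsingleton.elim x x₀]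
  obtain ⟨U, hx, ⟨e⟩⟩ := FEt21.isFinLocFreeOfRank_of_finrank B d hd x₀
  obtain rfl : U = ⊤ := eq_top_iff.2 fun x _ => by rw [Subsingleton.elim x x₀]; exact hx
  let M := (Scheme.Modules.pushforward B).obj (Coh.structureModule G)
  let s : W ⟶ ((⊤ : W.Opens) : Scheme.{u}) := W.topIso.inv
  let e' : M ≅ FlatMod.freeMod W d :=
    ((Scheme.Modules.pullbackId W).app M).symm ≪≫
      (Scheme.Modules.pullbackCongr (show 𝟙 W = s ≫ (⊤ : W.Opens).ι from W.topIso.inv_hom_id.symm)).app M ≪≫
      ((Scheme.Modules.pullbackComp s (⊤ : W.Opens).ι).app M).symm ≪≫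
      (Scheme.Modules.pullback s).mapIso ((Scheme.Modules.restrictFunctorIsoPullback _).symm.app M ≪≫ e) ≪≫
      OX.pullFreeModIso s d
  haveI : (Coh.structureModule G).IsQuasicoherent := WeakAss.isQuasicoherent_structureModule
  have hW : (W ↘ Spec (CommRingCat.of k)) = 𝟙 W := Spec.map_id _
  obtain ⟨E⟩ := Snapper.nonempty_HH_linearEquiv_pushforward (A := k) B (by rw [hW]; exact Category.comp_id B) (Coh.structureModule G) 0
  have h1 : d = n := by
    rw [← hn, E.finrank_eq]
    refine ((FibTriv28.finrank_H0_freeMod (κ := k) (Z := W) ?_ d).symm.trans ?_)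
    · rw [hW]; exact ConcreteCategory.bijective_of_isIso (Scheme.Hom.app (𝟙 W) ⊤)
    · exact (Euler.hhEquiv (A := k) e' 0).finrank_eq.symm
  subst h1
  exact ⟨e'⟩

variable {X : Scheme.{u}} [X.Over (Spec (CommRingCat.of k))]

/-- **The tensor square of the direct image of a torsor.** -/
theorem nonempty_tensorSq_iso {G : Scheme.{u}} [G.Over (Spec (CommRingCat.of k))]
    [GrpObj (G.asOver (Spec (CommRingCat.of k)))] [IsFinite (G ↘ Spec (CommRingCat.of k))] {n : ℕ}
    (hn : Module.finrank k (Coh.HH G (Coh.structureModule G) 0) = n) (P : Over X)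
    [IsFinite P.hom] [Flat P.hom] [LocallyOfFinitePresentation P.hom] {d : ℕ} (hd : ∀ x, P.hom.finrank x = d)
    (a : AlgGrp.Action (Red.bc (X ↘ Spec (CommRingCat.of k)) (G.asOver (Spec (CommRingCat.of k)))) P)
    (hps : NonAbH1.IsPseudoTorsorSch a) :
    Nonempty (T ((Scheme.Modules.pushforward P.hom).obj (Coh.structureModule P.left))
        ((Scheme.Modules.pushforward P.hom).obj (Coh.structureModule P.left)) ≅
      ∐ fun _ : Fin n => (Scheme.Modules.pushforward P.hom).obj (Coh.structureModule P.left)) := by
  let f := P.hom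
  let p := X ↘ Spec (CommRingCat.of k)
  let B := G ↘ Spec (CommRingCat.of k)
  let G' := Red.bc p (G.asOver (Spec (CommRingCat.of k)))
  let q : pullback B p ⟶ X := pullback.snd B p
  haveI : IsAffineHom B := inferInstance
  haveI : IsAffineHom q := MorphismProperty.pullback_snd _ _ inferInstance
  haveI : IsIso (lift a.act (snd G' P)) := hps
  let e : pullback G'.hom f ≅ pullback f f := (Over.forget X).mapIso (asIso (lift a.act (snd G' P)))
  have he : e.hom ≫ pullback.snd f f = pullback.snd G'.hom f :=
    congrArg CommaMorphism.left (lift_snd a.act (snd G' P))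
  have h₁ : IsPullback (e.hom ≫ pullback.fst f f) (pullback.snd G'.hom f) f f :=
    IsPullback.of_iso_pullback ⟨by rw [Category.assoc, pullback.condition, reassoc_of% he]⟩ e rfl he
  have h₂ : IsPullback (pullback.fst q f) (pullback.snd q f) q f := IsPullback.of_hasPullback q f
  have h₃ : IsPullback (pullback.fst B p) q B p := IsPullback.of_hasPullback B p
  obtain ⟨e₀⟩ := nonempty_pushforward_free k hn
  let π := (Scheme.Modules.pushforward f).obj (Coh.structureModule P.left)
  let eq : (Scheme.Modules.pushforward q).obj (Coh.structureModule _) ≅ FlatMod.freeMod X n :=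
    (bcStrIso h₃).symm ≪≫ (Scheme.Modules.pullback p).mapIso e₀ ≪≫ OX.pullFreeModIso p n
  let eπ : (Scheme.Modules.pullback f).obj π ≅ FlatMod.freeMod P.left n :=
    bcStrIso h₁ ≪≫ (bcStrIso h₂).symm ≪≫ (Scheme.Modules.pullback f).mapIso eq ≪≫ OX.pullFreeModIso f n
  have hπ : FlatMod.IsFinLocFree π := fun x => by
    obtain ⟨U, hx, he⟩ := FEt21.isFinLocFreeOfRank_of_finrank f d hd x
    exact ⟨U, d, hx, he⟩
  haveI := ProjFormula.isIso_projHom f hπ (Coh.structureModule P.left)
  obtain ⟨e'⟩ := nonempty_map_coprod (Scheme.Modules.pushforward f) (fun _ : Fin n => Coh.structureModule P.left)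
  exact ⟨asIso (ProjFormula.projHom f π (Coh.structureModule P.left)) ≪≫ (Scheme.Modules.pushforward f).mapIso
      ((OX.tensorBraiding.app ((Scheme.Modules.pullback f).obj π)).symm.app _ ≪≫ OX.tensorUnitLeftIso _ ≪≫ eπ) ≪≫ e'⟩

end GrothLib.WeilFin11
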